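import Groth.Agent.QCoh.DevissageP
import Groth.Agent.KFlatLib.Scheme.TensorStalk
import Groth.Agent.Lib.CurveBundle
import Groth.Agent.InvX.Frame
import Groth.Agent.AmpleVan.Vanish
import Groth.Agent.AmpleVan.Mul

/-! Maps of modules which are isomorphisms over an open set, and their coherent comparisons. -/

noncomputable section

set_option linter.style.haveILetI false
set_option linter.unusedSectionVars false
set_option backward.isDefEq.respectTransparency false
set_option backward.isDefEq.respectTransparency.types false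

universe u

open CategoryTheory CategoryTheory.Limits AlgebraicGeometry TopologicalSpace Opposite

namespace Groth.Agent.Snapper

open Groth.Agent

variable {X : Scheme.{u}}

/-- A map inducing isomorphisms on the stalks at the points of `U`. -/
def IsoOn (U : X.Opens) {A B : X.Modules} (φ : A ⟶ B) : Prop :=
  ∀ x ∈ U, IsIso ((DerSch.stalkFunctor X x).map φ)

theorem notMem_support_iff {A : X.Modules} {x : X} :
    x ∉ CohB1.support A ↔ IsZero ((DerSch.stalkFunctor X x).obj A) :=
  (not_not (a := Subsingleton _)).trans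
    ⟨fun h => (ModuleCat.isZero_iff_subsingleton (M := (DerSch.stalkFunctor X x).obj A)).2 h,
      fun h => (ModuleCat.isZero_iff_subsingleton (M := (DerSch.stalkFunctor X x).obj A)).1 h⟩

theorem notMem_support_kernel {A B : X.Modules} (φ : A ⟶ B) {x : X}
    (h : Mono ((DerSch.stalkFunctor X x).map φ)) : x ∉ CohB1.support (kernel φ) := by
  let F := DerSch.stalkFunctor X x
  have hS : (ShortComplex.mk (kernel.ι φ) (Abelian.factorThruImage φ)
      ((cancel_mono (Abelian.image.ι φ)).1 (by rw [Category.assoc, Abelian.image.fac, kernel.condition, zero_comp]))).ShortExact :=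
    { exact := ShortComplex.exact_of_f_is_kernel _ (KernelFork.IsLimit.ofι' _ _ fun {T} t ht =>
        ⟨kernel.lift φ t (by rw [← Abelian.image.fac φ, reassoc_of% ht, zero_comp]), kernel.lift_ι _ _ _⟩)
      mono_f := inferInstance
      epi_g := inferInstance }
  have hm := (hS.map_of_exact F).mono_f
  haveI : Mono (F.map φ) := h
  refine notMem_support_iff.2 ((IsZero.iff_id_eq_zero _).2 ((cancel_mono (F.map (kernel.ι φ))).1 ?_))
  refine (cancel_mono (F.map φ)).1 ?_
  rw [Category.id_comp, zero_comp, zero_comp, ← F.map_comp, kernel.condition, F.map_zero]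

theorem notMem_support_cokernel {A B : X.Modules} (φ : A ⟶ B) {x : X}
    (h : Epi ((DerSch.stalkFunctor X x).map φ)) : x ∉ CohB1.support (cokernel φ) := by
  let F := DerSch.stalkFunctor X x
  have hS : (ShortComplex.mk (Abelian.image.ι φ) (cokernel.π φ) (kernel.condition _)).ShortExact :=
    { exact := ShortComplex.exact_of_f_is_kernel _ (kernelIsKernel (cokernel.π φ))
      mono_f := inferInstance
      epi_g := inferInstance }
  have hm := (hS.map_of_exact F).epi_g
  haveI : Epi (F.map φ) := h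
  refine notMem_support_iff.2 ((IsZero.iff_id_eq_zero _).2 ((cancel_epi (F.map (cokernel.π φ))).1 ?_))
  refine (cancel_epi (F.map φ)).1 ?_
  rw [Category.comp_id, comp_zero, comp_zero, ← F.map_comp, cokernel.condition, F.map_zero]

theorem support_subset_compl {U : X.Opens} {A B : X.Modules} {φ : A ⟶ B} (h : IsoOn U φ) :
    CohB1.support (kernel φ) ⊆ (U : Set X)ᶜ ∧ CohB1.support (cokernel φ) ⊆ (U : Set X)ᶜ :=
  ⟨fun x hx hxU => haveI := h x hxU; notMem_support_kernel φ inferInstance hx,
    fun x hx hxU => haveI := h x hxU; notMem_support_cokernel φ inferInstance hx⟩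

/-- The restriction to `U` extended back. -/
def resMap (U : X.Opens) (A : X.Modules) :
    A ⟶ (Scheme.Modules.pushforward U.ι).obj (A.restrict U.ι) :=
  (Scheme.Modules.restrictAdjunction U.ι).unit.app A

theorem le_image {U W : X.Opens} (hW : W ≤ U) : W ≤ U.ι ''ᵁ (U.ι ⁻¹ᵁ W) := by
  rw [U.ι.image_preimage_eq_opensRange_inf, Scheme.Opens.opensRange_ι]
  exact le_inf hW le_rfl

theorem resMap_app_bijective (U : X.Opens) (A : X.Modules) {W : X.Opens} (hW : W ≤ U) :
    Function.Bijective ((resMap U A).app W) := by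
  refine ⟨QCoh.unit_restrict_app_injective U A hW, fun y => ⟨A.presheaf.map (homOfLE (le_image hW)).op y, ?_⟩⟩
  show ((Scheme.Modules.restrictAdjunction U.ι).unit.app A).app W _ = y
  rw [Scheme.Modules.restrictAdjunction_unit_app_app]
  exact (QCoh.map_map (M := A) _ _ (show Γ(A, U.ι ''ᵁ (U.ι ⁻¹ᵁ W)) from y)).trans
    (QCoh.map_id' (M := A) _ (show Γ(A, U.ι ''ᵁ (U.ι ⁻¹ᵁ W)) from y))

theorem isoOn_resMap (U : X.Opens) (A : X.Modules) : IsoOn U (resMap U A) := fun x hx => by
  let B := (Scheme.Modules.pushforward U.ι).obj (A.restrict U.ι)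
  have key : Function.Bijective ((DerSch.stalkFunctor X x).map (resMap U A)) := by
    constructor
    · intro a b hab
      obtain ⟨V, hxV, s, rfl⟩ := TopCat.Presheaf.exists_germ_eq A.presheaf a
      obtain ⟨V', hxV', t, rfl⟩ := TopCat.Presheaf.exists_germ_eq A.presheaf b
      have h1 : B.presheaf.germ V x hxV ((resMap U A).app V s) = B.presheaf.germ V' x hxV' ((resMap U A).app V' t) :=
        (TopCat.Presheaf.stalkFunctor_map_germ_apply V x hxV ((Scheme.Modules.toPresheaf X).map (resMap U A)) s).symm.trans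
          (hab.trans (TopCat.Presheaf.stalkFunctor_map_germ_apply V' x hxV'
            ((Scheme.Modules.toPresheaf X).map (resMap U A)) t))
      obtain ⟨W, hxW, i, j, hW⟩ := B.presheaf.germ_eq (U := V) (V := V') x hxV hxV' _ _ h1
      let W' : X.Opens := W ⊓ U
      refine A.presheaf.germ_ext W' ⟨hxW, hx⟩ (homOfLE (inf_le_left.trans i.le)) (homOfLE (inf_le_left.trans j.le)) ?_
      refine (resMap_app_bijective U A (inf_le_right : W' ≤ U)).1 ?_
      have h2 := congrArg (AModX.res B (inf_le_left : W' ≤ W)) hW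
      refine (AModX.app_res (resMap U A) _ s).trans (Eq.trans ?_ (AModX.app_res (resMap U A) _ t).symm)
      refine Eq.trans ?_ (h2.trans (AModX.res_res _ _ _))
      exact (AModX.res_res _ _ _).symm
    · intro b
      obtain ⟨V, hxV, t, rfl⟩ := TopCat.Presheaf.exists_germ_eq B.presheaf b
      obtain ⟨s, hs⟩ := (resMap_app_bijective U A (inf_le_right : V ⊓ U ≤ U)).2 (AModX.res B inf_le_left t)
      refine ⟨A.presheaf.germ (V ⊓ U) x ⟨hxV, hx⟩ s, ?_⟩
      refine (TopCat.Presheaf.stalkFunctor_map_germ_apply (V ⊓ U) x ⟨hxV, hx⟩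
        ((Scheme.Modules.toPresheaf X).map (resMap U A)) s).trans ?_
      exact (congrArg (B.presheaf.germ (V ⊓ U) x ⟨hxV, hx⟩) hs).trans (InvX.germ_res' _ _ t)
  exact (ConcreteCategory.isIso_iff_bijective _).2 key

/-- A module extended from `U` vanishes near points with a neighbourhood missing the support inside `U`. -/
theorem notMem_support_push {U : X.Opens} {A : X.Modules} {x : X} {W : X.Opens} (hxW : x ∈ W)
    (hW : Disjoint ((W : Set X) ∩ U) (CohB1.support A)) :
    x ∉ CohB1.support ((Scheme.Modules.pushforward U.ι).obj (A.restrict U.ι)) := by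
  let B := (Scheme.Modules.pushforward U.ι).obj (A.restrict U.ι)
  refine not_not.2 (subsingleton_of_forall_eq 0 fun b => ?_)
  obtain ⟨V, hxV, t, rfl⟩ := TopCat.Presheaf.exists_germ_eq B.presheaf b
  have h0 : AModX.res B (inf_le_left : V ⊓ W ≤ V) t = 0 := by
    refine QCoh.push_res_injective U A _ ?_
    rw [map_zero]
    obtain ⟨s, hs⟩ := (resMap_app_bijective U A (inf_le_right : V ⊓ W ⊓ U ≤ U)).2
      (AModX.res B (inf_le_left : V ⊓ W ⊓ U ≤ V ⊓ W) (AModX.res B inf_le_left t))
    refine hs.symm.trans ?_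
    have : s = 0 := TopCat.Presheaf.section_ext ⟨A.presheaf, A.isSheaf⟩ _ _ _ fun y hy => by
      haveI : Subsingleton (A.presheaf.stalk y) := not_not.1 fun h =>
        Set.disjoint_left.1 hW ⟨hy.1.2, hy.2⟩ h
      exact Subsingleton.elim _ _
    rw [this, map_zero]
  rw [← InvX.germ_res' (inf_le_left : V ⊓ W ≤ V) ⟨hxV, hxW⟩ t, h0, map_zero]

/-- Two modules mapping isomorphically over `U` to a third are linked by coherent modules. -/
theorem exists_link [IsLocallyNoetherian X] {U : X.Opens} {A B Q : X.Modules} (hA : Coh.IsCoh A)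
    (hB : Coh.IsCoh B) (hQ : Coh.IsQCoh Q) (φ : A ⟶ Q) (ψ : B ⟶ Q) (hφ : IsoOn U φ) (hψ : IsoOn U ψ) :
    ∃ (K I : X.Modules) (a : K ⟶ A) (b : K ⟶ I) (c : B ⟶ I),
      Coh.IsCoh K ∧ Coh.IsCoh I ∧ IsoOn U a ∧ IsoOn U b ∧ IsoOn U c := by
  have hCo : Coh.IsQCoh (cokernel ψ) := QCoh.isQCoh_cokernel hB.1 hQ ψ
  let e := φ ≫ cokernel.π ψ
  have hK : Coh.IsCoh (kernel e) := QCoh.isCoh_of_mono (kernel.ι e) hA (QCoh.isQCoh_kernel hA.1 hCo e)
  have hI : Coh.IsCoh (Abelian.image ψ) :=
    QCoh.isCoh_of_epi (Abelian.factorThruImage ψ) hB (QCoh.isQCoh_kernel hQ hCo _)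
  let b : kernel e ⟶ Abelian.image ψ := kernel.lift _ (kernel.ι e ≫ φ) (by rw [Category.assoc]; exact kernel.condition e)
  have hb : b ≫ Abelian.image.ι ψ = kernel.ι e ≫ φ := kernel.lift_ι _ _ _
  refine ⟨kernel e, Abelian.image ψ, kernel.ι e, b, Abelian.factorThruImage ψ, hK, hI, ?_⟩
  have hcoker : ∀ x ∈ U, IsZero ((DerSch.stalkFunctor X x).obj (cokernel ψ)) := fun x hx =>
    notMem_support_iff.1 fun h => (support_subset_compl hψ).2 h hx
  have hker : ∀ {C D : X.Modules} (g : C ⟶ D), (∀ x ∈ U, IsZero ((DerSch.stalkFunctor X x).obj D)) →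
      IsoOn U (kernel.ι g) := fun {C D} g hD x hx => by
    let F := DerSch.stalkFunctor X x
    have hS : (ShortComplex.mk (kernel.ι g) g (kernel.condition g)).Exact :=
      ShortComplex.exact_of_f_is_kernel _ (kernelIsKernel g)
    haveI : Mono (F.map (kernel.ι g)) := inferInstance
    haveI : Epi (F.map (kernel.ι g)) := (hS.map F).epi_f ((hD x hx).eq_of_tgt _ _)
    exact isIso_of_mono_of_epi _
  have ha : IsoOn U (kernel.ι e) := hker e hcoker
  have hι : IsoOn U (Abelian.image.ι ψ) := hker (cokernel.π ψ) hcoker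
  refine ⟨ha, fun x hx => ?_, fun x hx => ?_⟩
  · haveI := ha x hx; haveI := hφ x hx; haveI := hι x hx
    have h : (DerSch.stalkFunctor X x).map b ≫ (DerSch.stalkFunctor X x).map (Abelian.image.ι ψ) =
        (DerSch.stalkFunctor X x).map (kernel.ι e) ≫ (DerSch.stalkFunctor X x).map φ := by
      rw [← Functor.map_comp, ← Functor.map_comp, hb]
    exact IsIso.of_isIso_fac_right h
  · haveI := hψ x hx; haveI := hι x hx
    have h : (DerSch.stalkFunctor X x).map (Abelian.factorThruImage ψ) ≫
        (DerSch.stalkFunctor X x).map (Abelian.image.ι ψ) = (DerSch.stalkFunctor X x).map ψ := by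
      rw [← Functor.map_comp, Abelian.image.fac]
    exact IsIso.of_isIso_fac_right h

/-- Tensoring keeps isomorphisms over `U`. -/
theorem IsoOn.tensor {U : X.Opens} {A B : X.Modules} {φ : A ⟶ B} (h : IsoOn U φ) (M : X.Modules) :
    IsoOn U ((AmpleVan.tw M).map φ) := fun x hx => by
  haveI := h x hx
  have := (KFlatLib.stalkTensorRightIso M x).hom.naturality φ
  exact (NatIso.isIso_map_iff (KFlatLib.stalkTensorRightIso M x) φ).2 (inferInstanceAs
    (IsIso ((MonoidalCategory.tensorRight _).map ((DerSch.stalkFunctor X x).map φ))))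

/-- The structure sheaf and a module with a frame on `U` are linked over `U`. -/
theorem exists_link_frame [IsNoetherian X] {L : X.Modules} (hL : PicF.IsInvertible L) {U : X.Opens}
    {e : Γ(L, U)} (he : InvX.IsFrame e) :
    ∃ (K I : X.Modules) (a : K ⟶ Coh.structureModule X) (b : K ⟶ I) (c : L ⟶ I),
      Coh.IsCoh K ∧ Coh.IsCoh I ∧ IsoOn U a ∧ IsoOn U b ∧ IsoOn U c := by
  let Q := (Scheme.Modules.pushforward U.ι).obj (L.restrict U.ι)
  have hLc := AmpleVan.isCoh_invertible hL
  have hQ : Coh.IsQCoh Q := QCoh.isQCoh_pushforward U.ι (QCoh.isQCoh_restrict U.ι hLc.1)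
  have hT : U.ι ''ᵁ (U.ι ⁻¹ᵁ (⊤ : X.Opens)) ≤ U := by
    rw [U.ι.image_preimage_eq_opensRange_inf, Scheme.Opens.opensRange_ι]
    exact inf_le_left
  let t : Γ(Q, ⊤) := L.presheaf.map (homOfLE hT).op e
  let φ := QCoh.homOfTop t
  refine exists_link QCoh.isCoh_structureModule' hLc hQ φ (resMap U L) (fun x hx => ?_) (isoOn_resMap U L)
  haveI := isoOn_resMap U L x hx
  let F := DerSch.stalkFunctor X x
  let one : F.obj (Coh.structureModule X) :=
    (Coh.structureModule X).presheaf.germ U x hx (show Γ(Coh.structureModule X, U) from (1 : Γ(X, U)))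
  have hφ1 : F.map φ one = F.map (resMap U L) (L.presheaf.germ U x hx e) := by
    refine (TopCat.Presheaf.stalkFunctor_map_germ_apply U x hx ((Scheme.Modules.toPresheaf X).map φ) _).trans ?_
    refine Eq.trans ?_ (TopCat.Presheaf.stalkFunctor_map_germ_apply U x hx
      ((Scheme.Modules.toPresheaf X).map (resMap U L)) e).symm
    refine congrArg (Q.presheaf.germ U x hx) ?_
    refine (QCoh.homOfTop_app (P := Q) t (1 : Γ(X, U))).trans ((one_smul _ _).trans ?_)
    show _ = ((Scheme.Modules.restrictAdjunction U.ι).unit.app L).app U e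
    rw [Scheme.Modules.restrictAdjunction_unit_app_app]
    exact (QCoh.push_restrict_map U L (homOfLE le_top) t).trans (QCoh.map_map (M := L) _ _ e)
  have hval : ∀ c : X.presheaf.stalk x,
      F.map φ (c • one) = F.map (resMap U L) (c • L.presheaf.germ U x hx e) := fun c => by
    rw [map_smul (F.map φ).hom, hφ1, map_smul (F.map (resMap U L)).hom]
  have hb : Function.Bijective (F.map (resMap U L)) := (ConcreteCategory.isIso_iff_bijective _).1 inferInstance
  refine (ConcreteCategory.isIso_iff_bijective _).2 ⟨fun p q hpq => ?_, fun q => ?_⟩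
  · obtain ⟨c, rfl⟩ := ((InvX.isFrame_one (X := X) U).germ_bijective (x := x) hx).2 p
    obtain ⟨d, rfl⟩ := ((InvX.isFrame_one (X := X) U).germ_bijective (x := x) hx).2 q
    rw [(he.germ_bijective hx).1 (hb.1 (((hval c).symm.trans hpq).trans (hval d)))]
  · obtain ⟨m, rfl⟩ := hb.2 q
    obtain ⟨c, rfl⟩ := (he.germ_bijective hx).2 m
    exact ⟨c • one, hval c⟩

end Groth.Agent.Snapper
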