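import Groth.Agent.Snapper.IsoOn
import Groth.Agent.H23.TopDim
import Groth.Agent.Lib.CurveVanish
import Groth.Agent.Lib.Euler

/-! Vanishing of the cohomology of quasi-coherent modules above the dimension of their supports. -/

noncomputable section

set_option linter.style.haveILetI false
set_option linter.unusedSectionVars false
set_option backward.isDefEq.respectTransparency false
set_option backward.isDefEq.respectTransparency.types false

universe u

open CategoryTheory CategoryTheory.Limits AlgebraicGeometry TopologicalSpace Opposite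

namespace Groth.Agent.Snapper

open Groth.Agent

variable {X : Scheme.{u}} [IsNoetherian X] [X.IsSeparated]

theorem support_push_subset {U : X.Opens} {M : X.Modules} {C : Closeds X}
    (hMC : (U : Set X) ∩ CohB1.support M ⊆ C) :
    CohB1.support ((Scheme.Modules.pushforward U.ι).obj (M.restrict U.ι)) ⊆ C := fun x hx => by
  by_contra hxC
  exact notMem_support_push (W := ⟨(C : Set X)ᶜ, C.isClosed.isOpen_compl⟩) hxC
    (Set.disjoint_left.2 fun y hy hyM => hy.1 (hMC ⟨hy.2, hyM⟩)) hx

/-- The two short exact sequences attached to the restriction to an open. -/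
theorem exists_res_sequences (U : X.Opens) {M : X.Modules} (hM : Coh.IsQCoh M) :
    ∃ (K I Q : X.Modules) (a : K ⟶ M) (b : M ⟶ I)
      (c : I ⟶ (Scheme.Modules.pushforward U.ι).obj (M.restrict U.ι))
      (d : (Scheme.Modules.pushforward U.ι).obj (M.restrict U.ι) ⟶ Q) (w : a ≫ b = 0) (w' : c ≫ d = 0),
      (ShortComplex.mk a b w).ShortExact ∧ (ShortComplex.mk c d w').ShortExact ∧
      Coh.IsQCoh K ∧ Coh.IsQCoh I ∧ Coh.IsQCoh Q ∧
      CohB1.support K ⊆ CohB1.support M \ U ∧
      CohB1.support I ⊆ CohB1.support M ∩ CohB1.support ((Scheme.Modules.pushforward U.ι).obj (M.restrict U.ι)) ∧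
      CohB1.support Q ⊆ CohB1.support ((Scheme.Modules.pushforward U.ι).obj (M.restrict U.ι)) \ U := by
  let φ := resMap U M
  have hP : Coh.IsQCoh ((Scheme.Modules.pushforward U.ι).obj (M.restrict U.ι)) :=
    QCoh.isQCoh_pushforward U.ι (QCoh.isQCoh_restrict U.ι hM)
  have hK := QCoh.isQCoh_kernel hM hP φ
  have hC := QCoh.isQCoh_cokernel hM hP φ
  have hI : Coh.IsQCoh (Abelian.image φ) := QCoh.isQCoh_kernel hP hC _
  obtain ⟨hk, hc⟩ := support_subset_compl (isoOn_resMap U M)
  refine ⟨kernel φ, Abelian.image φ, cokernel φ, kernel.ι φ, Abelian.factorThruImage φ, Abelian.image.ι φ, cokernel.π φ,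
    (cancel_mono (Abelian.image.ι φ)).1 (by rw [Category.assoc, Abelian.image.fac, kernel.condition, zero_comp]),
    kernel.condition _,
    { exact := ShortComplex.exact_of_f_is_kernel _ (KernelFork.IsLimit.ofι' _ _ fun {T} t ht =>
        ⟨kernel.lift φ t (by rw [← Abelian.image.fac φ, reassoc_of% ht, zero_comp]), kernel.lift_ι _ _ _⟩)
      mono_f := inferInstance
      epi_g := inferInstance },
    { exact := ShortComplex.exact_of_f_is_kernel _ (kernelIsKernel (cokernel.π φ))
      mono_f := inferInstance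
      epi_g := inferInstance },
    hK, hI, hC, fun x hx => ⟨QCoh.mem_support_of_mono hK hM (kernel.ι φ) hx, hk hx⟩,
    fun x hx => ⟨QCoh.support_of_epi hM hI (Abelian.factorThruImage φ) hx,
      QCoh.mem_support_of_mono hI hP (Abelian.image.ι φ) hx⟩,
    fun x hx => ⟨QCoh.support_of_epi hP hC (cokernel.π φ) hx, hc hx⟩⟩

/-- Grothendieck vanishing for quasi-coherent modules: no cohomology above the dimension of the support. -/
theorem subsingleton_HH_of_dim_lt (d : ℕ) :
    ∀ (C : Closeds X), topologicalKrullDim ↥(C : Set X) < (d : WithBot ℕ∞) →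
      ∀ M : X.Modules, Coh.IsQCoh M → CohB1.support M ⊆ C → ∀ i, d ≤ i → Subsingleton (Coh.HH X M i) := by
  have hempty : ∀ M : X.Modules, Coh.IsQCoh M → CohB1.support M = ∅ → ∀ i, Subsingleton (Coh.HH X M i) :=
    fun M hM h i => Euler.subsingleton_HH_of_isZero (QCoh.isZero_of_app_eq_zero hM fun W s =>
      TopCat.Presheaf.section_ext ⟨M.presheaf, M.isSheaf⟩ _ _ _ fun y _ => by
        haveI : Subsingleton (M.presheaf.stalk y) := not_not.1 fun hy' => h.le hy'
        exact Subsingleton.elim _ _) i
  induction d with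
  | zero =>
    intro C hC M hM hMC i _
    refine hempty M hM (Set.eq_empty_of_forall_notMem fun x hx => ?_) i
    haveI : Nonempty ↥(C : Set X) := ⟨⟨x, hMC hx⟩⟩
    haveI : Nonempty (IrreducibleCloseds ↥(C : Set X)) :=
      ⟨⟨closure {⟨x, hMC hx⟩}, isIrreducible_singleton.closure, isClosed_closure⟩⟩
    exact absurd hC (not_lt.2 (by exact_mod_cast Order.krullDim_nonneg))
  | succ d IHd =>
    intro C
    induction C using WellFoundedLT.induction with
    | ind C IH =>
      intro hC M hM hMC i hi
      rcases Set.eq_empty_or_nonempty (C : Set X) with h0 | hne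
      · exact hempty M hM (Set.subset_empty_iff.1 (h0 ▸ hMC)) i
      have hdim : ∀ C' : Closeds X, C' ≤ C → topologicalKrullDim ↥(C' : Set X) < ((d + 1 : ℕ) : WithBot ℕ∞) :=
        fun C' h => lt_of_le_of_lt (H23.TopDim.dim_le_dim_of_subset (show (C' : Set X) ⊆ C from h)) hC
      by_cases hirr : IsIrreducible (C : Set X)
      · obtain ⟨η, hη⟩ := QuasiSober.sober hirr C.isClosed
        have hηC : η ∈ (C : Set X) := hη.mem
        obtain ⟨U, hU, hηU⟩ := QCoh.exists_affine_mem η
        haveI : IsAffine U.toScheme := hU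
        haveI : IsAffineHom (U.ι ≫ terminal.from X) := isAffineHom_of_isAffine _
        haveI : IsAffineHom U.ι := IsAffineHom.of_comp U.ι (terminal.from X)
        let C' : Closeds X := ⟨(C : Set X) \ U, C.isClosed.sdiff U.2⟩
        have hC' : topologicalKrullDim ↥(C' : Set X) < (d : WithBot ℕ∞) := by
          haveI : IrreducibleSpace ↥(C : Set X) := isIrreducible_iff_irreducibleSpace.1 hirr
          let Y : Set ↥(C : Set X) := {y | (y : X) ∈ (U : Set X)ᶜ}
          have hlt := H23.TopDim.dim_lt_of_ssubset (X := ↥(C : Set X)) (fun h => by rw [h] at hC; exact not_top_lt hC)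
            (Y := Y) (U.2.isClosed_compl.preimage continuous_subtype_val)
            (fun h => (h.ge (Set.mem_univ ⟨η, hηC⟩) : η ∈ (U : Set X)ᶜ) hηU)
          have hle : topologicalKrullDim ↥((C : Set X) \ U) ≤ topologicalKrullDim ↥Y := by
            let g : ↥((C : Set X) \ U) → ↥Y := fun p => ⟨⟨p.1, p.2.1⟩, p.2.2⟩
            have hcomp : Topology.IsInducing ((Subtype.val ∘ Subtype.val : ↥Y → X) ∘ g) :=
              show Topology.IsInducing (Subtype.val : ↥((C : Set X) \ U) → X) from Topology.IsInducing.subtypeVal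
            exact ((Topology.IsInducing.subtypeVal.comp Topology.IsInducing.subtypeVal).of_comp_iff.1 hcomp).topologicalKrullDim_le
          refine lt_of_le_of_lt hle ?_
          revert hlt hC
          generalize topologicalKrullDim ↥Y = a
          generalize topologicalKrullDim ↥(C : Set X) = b
          intro hC hlt
          cases a with
          | bot => exact WithBot.bot_lt_coe _
          | coe a =>
            cases b with
            | bot => exact absurd hlt not_lt_bot
            | coe b =>
              have h1 : a < b := WithBot.coe_lt_coe.1 hlt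
              have h2 : b < ((d + 1 : ℕ) : ℕ∞) := WithBot.coe_lt_coe.1 hC
              refine WithBot.coe_lt_coe.2 (lt_of_lt_of_le h1 ?_)
              exact ENat.lt_add_one_iff (ENat.natCast_ne_top d) |>.1 (by exact_mod_cast h2)
        obtain ⟨K, I, Q, a, b, c, e, w, w', hS, hS', hK, hI, hQ, sK, sI, sQ⟩ := exists_res_sequences U hM
        obtain ⟨n, rfl⟩ : ∃ n, i = n + 1 := ⟨i - 1, by omega⟩
        have sP := support_push_subset (U := U) (M := M) (C := C) fun x hx => hMC hx.2
        have hG : Subsingleton (Coh.HH X ((Scheme.Modules.pushforward U.ι).obj (M.restrict U.ι)) (n + 1)) := by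
          obtain ⟨eq⟩ := QCoh.HH_push_of_isAffineHom U.ι (QCoh.isQCoh_restrict U.ι hM) (n + 1)
          haveI := QCoh.subsingleton_HH_of_isAffine (X := U.toScheme) (QCoh.isQCoh_restrict U.ι hM) n
          exact eq.symm.toEquiv.subsingleton
        exact QCoh.subsingleton_HH_X₂ hS (n + 1)
          (IHd C' hC' K hK (fun x hx => ⟨hMC (sK hx).1, (sK hx).2⟩) _ (by omega))
          (CurveVanish.subsingleton_HH_X₁ hS' n hG
            (IHd C' hC' Q hQ (fun x hx => ⟨sP (sQ hx).1, (sQ hx).2⟩) _ (by omega)))
      · obtain ⟨A, B, hA, hB, hsub, hnA, hnB⟩ : ∃ A B : Set X, IsClosed A ∧ IsClosed B ∧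
            (C : Set X) ⊆ A ∪ B ∧ ¬ (C : Set X) ⊆ A ∧ ¬ (C : Set X) ⊆ B := by
          by_contra! hno
          exact hirr ⟨hne, isPreirreducible_iff_isClosed_union_isClosed.2 fun A B hA hB hs =>
            or_iff_not_imp_left.2 fun hA' => hno A B hA hB hs hA'⟩
        let C₁ : Closeds X := ⟨(C : Set X) ∩ A, C.isClosed.inter hA⟩
        let C₂ : Closeds X := ⟨(C : Set X) ∩ B, C.isClosed.inter hB⟩
        have h1 : C₁ < C := lt_of_le_of_ne (Set.inter_subset_left : (C : Set X) ∩ A ⊆ C)
          fun h => hnA (Set.inter_eq_left.1 (congrArg (SetLike.coe) h))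
        have h2 : C₂ < C := lt_of_le_of_ne (Set.inter_subset_left : (C : Set X) ∩ B ⊆ C)
          fun h => hnB (Set.inter_eq_left.1 (congrArg (SetLike.coe) h))
        let U : X.Opens := ⟨(C₂ : Set X)ᶜ, C₂.isClosed.isOpen_compl⟩
        obtain ⟨K, I, Q, a, b, c, e, w, w', hS, hS', hK, hI, hQ, sK, sI, sQ⟩ := exists_res_sequences U hM
        have sP := support_push_subset (U := U) (M := M) (C := C₁) fun x hx =>
          ⟨hMC hx.2, (hsub (hMC hx.2)).resolve_right fun hxB => hx.1 ⟨hMC hx.2, hxB⟩⟩
        exact QCoh.subsingleton_HH_X₂ hS i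
          (IH C₂ h2 (hdim C₂ h2.le) K hK (fun x hx => not_not.1 (sK hx).2) i hi)
          (IH C₁ h1 (hdim C₁ h1.le) I hI (fun x hx => sP (sI hx).2) i hi)

/-- Cohomology vanishes above the dimension of the scheme. -/
theorem subsingleton_HH_of_dim_le {d : ℕ} (hd : topologicalKrullDim X ≤ d) {M : X.Modules}
    (hM : Coh.IsQCoh M) {i : ℕ} (hi : d < i) : Subsingleton (Coh.HH X M i) := by
  refine subsingleton_HH_of_dim_lt (d + 1) ⊤ ?_ M hM (fun x _ => trivial) i hi
  refine lt_of_le_of_lt ((topologicalKrullDim_subspace_le X Set.univ).trans hd) ?_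
  exact_mod_cast Nat.lt_succ_self d

end Groth.Agent.Snapper
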