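import Groth.Agent.Snapper.Poly
import Mathlib.Algebra.MvPolynomial.CommRing
import Mathlib.Algebra.MvPolynomial.Degrees
import Mathlib.Data.Fin.Tuple.Basic

/-! Discrete antiderivatives of polynomials in several variables. -/

noncomputable section

open MvPolynomial

namespace Groth.Agent.Snapper

variable {σ τ : Type}

/-- All monomials of `Q` have degree below `d`. -/
def DegLt (d : ℕ) (Q : MvPolynomial σ ℚ) : Prop :=
  ∀ α ∈ Q.support, (α.sum fun _ e => e) < d

theorem degLt_zero (d : ℕ) : DegLt d (0 : MvPolynomial σ ℚ) := by simp [DegLt]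

theorem degLt_of_totalDegree {d : ℕ} {Q : MvPolynomial σ ℚ} (h : Q.totalDegree < d) : DegLt d Q :=
  fun _ hα => (le_totalDegree hα).trans_lt h

theorem DegLt.totalDegree_le {d : ℕ} {Q : MvPolynomial σ ℚ} (h : DegLt (d + 1) Q) : Q.totalDegree ≤ d :=
  Finset.sup_le fun α hα => Nat.lt_succ_iff.1 (h α hα)

theorem DegLt.add {d : ℕ} {Q R : MvPolynomial σ ℚ} (h : DegLt d Q) (h' : DegLt d R) : DegLt d (Q + R) := by
  classical
  exact fun α hα => (Finset.mem_union.1 (MvPolynomial.support_add hα)).elim (h α) (h' α)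

theorem DegLt.neg {d : ℕ} {Q : MvPolynomial σ ℚ} (h : DegLt d Q) : DegLt d (-Q) := fun α hα =>
  h α (by rwa [MvPolynomial.support_neg] at hα)

theorem DegLt.sub {d : ℕ} {Q R : MvPolynomial σ ℚ} (h : DegLt d Q) (h' : DegLt d R) : DegLt d (Q - R) :=
  sub_eq_add_neg Q R ▸ h.add h'.neg

theorem degLt_sum {ι : Type*} {d : ℕ} (s : Finset ι) (f : ι → MvPolynomial σ ℚ) (h : ∀ i ∈ s, DegLt d (f i)) :
    DegLt d (∑ i ∈ s, f i) :=
  Finset.sum_induction f (DegLt d) (fun _ _ => DegLt.add) (degLt_zero d) h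

/-- Substitution by polynomials of degree at most one does not raise degrees. -/
theorem DegLt.aeval {d : ℕ} {Q : MvPolynomial σ ℚ} (h : DegLt d Q) (g : σ → MvPolynomial τ ℚ)
    (hg : ∀ i, (g i).totalDegree ≤ 1) : DegLt d (aeval g Q) := by
  rw [Q.as_sum, map_sum]
  refine degLt_sum _ _ fun α hα => degLt_of_totalDegree (lt_of_le_of_lt ?_ (h α hα))
  rw [aeval_monomial]
  refine (totalDegree_mul _ _).trans ?_
  rw [algebraMap_eq, totalDegree_C, zero_add]
  refine (totalDegree_finset_prod _ _).trans (Finset.sum_le_sum fun i _ => ?_)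
  exact (totalDegree_pow _ _).trans (Nat.mul_le_mul_left _ (hg i) |>.trans_eq (mul_one _))

theorem eval_aeval (g : σ → MvPolynomial τ ℚ) (v : τ → ℚ) (Q : MvPolynomial σ ℚ) :
    eval v (MvPolynomial.aeval g Q) = eval (fun i => eval v (g i)) Q := by
  induction Q using MvPolynomial.induction_on with
  | C a => simp
  | add p q hp hq => simp [hp, hq]
  | mul_X p i hp => simp [hp]

/-- Values of a polynomial of degree below `d` at natural numbers. -/
def IsMPolyLt (d : ℕ) (f : (σ → ℕ) → ℚ) : Prop :=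
  ∃ Q : MvPolynomial σ ℚ, DegLt d Q ∧ ∀ n, f n = eval (fun i => (n i : ℚ)) Q

theorem IsMPolyLt.congr {d : ℕ} {f g : (σ → ℕ) → ℚ} (h : IsMPolyLt d f) (e : ∀ n, g n = f n) : IsMPolyLt d g :=
  let ⟨Q, hQ, h⟩ := h; ⟨Q, hQ, fun n => (e n).trans (h n)⟩

theorem IsMPolyLt.add {d : ℕ} {f g : (σ → ℕ) → ℚ} (h : IsMPolyLt d f) (h' : IsMPolyLt d g) : IsMPolyLt d (f + g) :=
  let ⟨Q, hQ, h⟩ := h; let ⟨Q', hQ', h'⟩ := h'
  ⟨Q + Q', hQ.add hQ', fun n => by simp [h n, h' n]⟩

theorem IsMPolyLt.sub {d : ℕ} {f g : (σ → ℕ) → ℚ} (h : IsMPolyLt d f) (h' : IsMPolyLt d g) : IsMPolyLt d (f - g) :=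
  let ⟨Q, hQ, h⟩ := h; let ⟨Q', hQ', h'⟩ := h'
  ⟨Q - Q', hQ.sub hQ', fun n => by simp [h n, h' n]⟩

theorem totalDegree_aeval_X_le (a : σ) (S : Polynomial ℚ) :
    (Polynomial.aeval (X a : MvPolynomial σ ℚ) S).totalDegree ≤ S.natDegree := by
  rw [Polynomial.aeval_eq_sum_range]
  refine (totalDegree_finset_sum _ _).trans (Finset.sup_le fun j hj => ?_)
  refine (totalDegree_smul_le _ _).trans ?_
  rw [totalDegree_X_pow]
  exact Nat.lt_succ_iff.1 (Finset.mem_range.1 hj)

/-- Discrete antiderivatives in one of the variables. -/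
theorem exists_mantidiff [DecidableEq σ] {d : ℕ} {Q : MvPolynomial σ ℚ} (hQ : DegLt d Q) (a : σ) :
    ∃ R : MvPolynomial σ ℚ, DegLt (d + 1) R ∧ ∀ n : σ → ℕ,
      eval (fun i => ((Function.update n a (n a + 1) i : ℕ) : ℚ)) R - eval (fun i => (n i : ℚ)) R =
        eval (fun i => (n i : ℚ)) Q := by
  have key : ∀ b : ℕ, ∃ S : Polynomial ℚ, S.natDegree ≤ b + 1 ∧ ∀ m : ℕ,
      S.eval ((m : ℚ) + 1) - S.eval (m : ℚ) = (m : ℚ) ^ b := fun b => by
    obtain ⟨S, hS, hd⟩ := exists_antidiff (d := b + 1) (Q := Polynomial.X ^ b)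
      (by rw [Polynomial.degree_X_pow]; exact_mod_cast Nat.lt_succ_self b)
    refine ⟨S, ?_, fun m => by rw [hd m, Polynomial.eval_pow, Polynomial.eval_X]⟩
    by_cases h0 : S = 0
    · simp [h0]
    · exact Nat.lt_succ_iff.1 ((Polynomial.natDegree_lt_iff_degree_lt h0).2 hS)
  choose S hSd hSn using key
  refine ⟨∑ α ∈ Q.support, monomial (α.erase a) (Q.coeff α) * Polynomial.aeval (X a) (S (α a)), ?_, fun n => ?_⟩
  · refine degLt_sum _ _ fun α hα => degLt_of_totalDegree ?_
    refine lt_of_le_of_lt ((totalDegree_mul _ _).trans (Nat.add_le_add (totalDegree_monomial_le _ _)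
      ((totalDegree_aeval_X_le a _).trans (hSd _)))) ?_
    have h1 := Finsupp.add_sum_erase' α a (fun _ => id) (fun _ => rfl)
    have h2 : (α.sum fun _ => id) < d := hQ α hα
    simp only [id_eq] at h1
    omega
  · conv_rhs => rw [Q.as_sum]
    rw [map_sum, map_sum, map_sum, ← Finset.sum_sub_distrib]
    refine Finset.sum_congr rfl fun α hα => ?_
    rw [map_mul, map_mul, eval_monomial, eval_monomial, eval_monomial]
    have h1 : ∀ v : σ → ℚ, eval v (Polynomial.aeval (X a) (S (α a))) = (S (α a)).eval (v a) := fun v => by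
      show (MvPolynomial.eval v) _ = _
      rw [Polynomial.aeval_def, Polynomial.hom_eval₂, eval_X]
      congr 1
      ext x
      simp
    rw [h1, h1, Function.update_self]
    have h2 : ((α.erase a).prod fun i e => ((Function.update n a (n a + 1) i : ℕ) : ℚ) ^ e) =
        (α.erase a).prod fun i e => (n i : ℚ) ^ e := Finsupp.prod_congr fun i hi => by
      rw [Finsupp.support_erase, Finset.mem_erase] at hi
      rw [Function.update_of_ne hi.1]
    rw [h2, ← Finsupp.mul_prod_erase' α a (fun i e => (n i : ℚ) ^ e) (fun i => pow_zero _), ← mul_sub, Nat.cast_add,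
      Nat.cast_one, hSn]
    ring

/-- A function all of whose partial differences are polynomial of degree below `d` is polynomial of
degree below `d + 1`. -/
theorem exists_mpoly_of_diff {d : ℕ} : ∀ {r : ℕ} (f : (Fin r → ℕ) → ℚ),
    (∀ i, IsMPolyLt d fun n => f (Function.update n i (n i + 1)) - f n) → IsMPolyLt (d + 1) f := by
  intro r
  induction r with
  | zero =>
    intro f _
    refine ⟨C (f Fin.elim0), degLt_of_totalDegree (by rw [totalDegree_C]; exact Nat.succ_pos d), fun n => ?_⟩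
    rw [eval_C, Subsingleton.elim n Fin.elim0]
  | succ r ih =>
    intro f h
    have hs : ∀ (v : Fin r → ℕ) (c : ℕ),
        (fun i : Fin (r + 1) => eval (fun j => (v j : ℚ))
          (Fin.snoc (α := fun _ => MvPolynomial (Fin r) ℚ) X (C (c : ℚ)) i)) =
          fun i => ((Fin.snoc (α := fun _ => ℕ) v c i : ℕ) : ℚ) := fun v c => by
      funext i
      refine Fin.lastCases ?_ (fun j => ?_) i <;> simp
    have h0 : IsMPolyLt (d + 1) fun v : Fin r → ℕ => f (Fin.snoc v 0) := by
      refine ih _ fun i => ?_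
      obtain ⟨Q, hQ, hQn⟩ := h i.castSucc
      refine ⟨MvPolynomial.aeval (Fin.snoc (α := fun _ => MvPolynomial (Fin r) ℚ) X (C ((0 : ℕ) : ℚ))) Q,
        hQ.aeval _ (fun j => ?_), fun v => ?_⟩
      · refine Fin.lastCases ?_ (fun j' => ?_) j <;> simp
      · rw [eval_aeval, hs, ← hQn]
        dsimp only
        rw [Fin.snoc_castSucc, Fin.snoc_update]
    obtain ⟨P₀, hP₀, hP₀n⟩ := h0
    obtain ⟨Q, hQ, hQn⟩ := h (Fin.last r)
    obtain ⟨R, hR, hRn⟩ := exists_mantidiff hQ (Fin.last r)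
    let g : Fin (r + 1) → MvPolynomial (Fin (r + 1)) ℚ := Fin.snoc (fun j => X j.castSucc) 0
    have hg : ∀ j, (g j).totalDegree ≤ 1 := fun j => by
      refine Fin.lastCases ?_ (fun j' => ?_) j <;> simp [g]
    let e : Fin r → MvPolynomial (Fin (r + 1)) ℚ := fun j => X j.castSucc
    refine ⟨MvPolynomial.aeval e P₀ + R - MvPolynomial.aeval g R,
      ((hP₀.aeval e fun j => (totalDegree_X (R := ℚ) j.castSucc).le).add hR).sub (hR.aeval g hg), ?_⟩
    have main : ∀ (v : Fin r → ℕ) (m : ℕ), f (Fin.snoc v m) = eval (fun j => (v j : ℚ)) P₀ +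
        eval (fun i => ((Fin.snoc (α := fun _ => ℕ) v m i : ℕ) : ℚ)) R -
        eval (fun i => ((Fin.snoc (α := fun _ => ℕ) v 0 i : ℕ) : ℚ)) R := fun v m => by
      induction m with
      | zero => rw [← hP₀n v]; ring
      | succ m ihm =>
        have e1 : Function.update (Fin.snoc (α := fun _ => ℕ) v m) (Fin.last r)
            (Fin.snoc (α := fun _ => ℕ) v m (Fin.last r) + 1) = Fin.snoc v (m + 1) := by
          rw [Fin.snoc_last, Fin.update_snoc_last]
        have h1 := hQn (Fin.snoc v m)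
        have h2 := hRn (Fin.snoc v m)
        simp only [e1] at h1 h2
        linarith
    intro n
    have hn : Fin.snoc (α := fun _ => ℕ) (Fin.init n) (n (Fin.last r)) = n := Fin.snoc_init_self n
    have h3 := main (Fin.init n) (n (Fin.last r))
    rw [hn] at h3
    rw [h3, map_sub, map_add, eval_aeval, eval_aeval]
    have h4 : (fun i => eval (fun i => (n i : ℚ)) (g i)) =
        fun i => ((Fin.snoc (α := fun _ => ℕ) (Fin.init n) 0 i : ℕ) : ℚ) := by
      funext i
      refine Fin.lastCases ?_ (fun j => ?_) i <;> simp [g, Fin.init]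
    have h5 : (fun j => eval (fun i => (n i : ℚ)) (e j)) = fun j => ((Fin.init n j : ℕ) : ℚ) := by
      funext j
      simp [e, Fin.init]
    rw [h4, h5]

end Groth.Agent.Snapper
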