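import Groth.Agent.Snapper.Main
import Groth.Agent.Snapper.MPoly
import Groth.Prelude.Def_FGA
import Groth.Prelude.Def_PicGrp

/-! Snapper's theorem for several invertible modules. -/

noncomputable section

set_option linter.style.haveILetI false
set_option linter.unusedSectionVars false
set_option backward.isDefEq.respectTransparency false
set_option backward.isDefEq.respectTransparency.types false

universe u

open CategoryTheory CategoryTheory.Limits AlgebraicGeometry TopologicalSpace Opposite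

namespace Groth.Agent.Snapper

open Groth.Agent

section Geometry

variable {X : Scheme.{u}}

/-- A short exact sequence on `(A, B, C)` of coherent modules. -/
def CohSES (A B C : X.Modules) : Prop :=
  Coh.IsCoh A ∧ Coh.IsCoh B ∧ Coh.IsCoh C ∧
    ∃ (f : A ⟶ B) (g : B ⟶ C) (w : f ≫ g = 0), (ShortComplex.mk f g w).ShortExact

theorem cohSES_map (F : X.Modules ⥤ X.Modules) [F.Additive] [PreservesFiniteLimits F] [PreservesFiniteColimits F]
    (hc : ∀ A, Coh.IsCoh A → Coh.IsCoh (F.obj A)) {A B C : X.Modules} (h : CohSES A B C) :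
    CohSES (F.obj A) (F.obj B) (F.obj C) := by
  obtain ⟨hA, hB, hC, f, g, w, hS⟩ := h
  exact ⟨hc _ hA, hc _ hB, hc _ hC, F.map f, F.map g, by rw [← F.map_comp, w, F.map_zero], hS.map_of_exact F⟩

theorem cohSES_tensorPows [IsNoetherian X] : ∀ {r : ℕ} (L : Fin r → X.Modules), (∀ i, PicF.IsInvertible (L i)) →
    ∀ (n : Fin r → ℕ) {A B C : X.Modules}, CohSES A B C →
      CohSES (Curv2.tensorPows A r L n) (Curv2.tensorPows B r L n) (Curv2.tensorPows C r L n)
  | 0, _, _, _, _, _, _, h => h
  | r + 1, L, hL, n, A, B, C, h => by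
    let P := CohB1.tensorPow (L (Fin.last r)) (n (Fin.last r))
    have hP := InvX.isInvertible_tensorPow (hL (Fin.last r)) (n (Fin.last r))
    haveI := AmpleVan.isEquivalence_tw hP
    haveI : (AmpleVan.tw P).Additive := Functor.additive_of_preserves_binary_products _
    exact cohSES_map (AmpleVan.tw P) (fun A h => AmpleVan.isCoh_tensor h (AmpleVan.isCoh_invertible hP))
      (cohSES_tensorPows (fun i => L i.castSucc) (fun i => hL _) (fun i => n i.castSucc) h)

theorem isCoh_tensorPows [IsNoetherian X] : ∀ {r : ℕ} (L : Fin r → X.Modules), (∀ i, PicF.IsInvertible (L i)) →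
    ∀ (n : Fin r → ℕ) {A : X.Modules}, Coh.IsCoh A → Coh.IsCoh (Curv2.tensorPows A r L n)
  | 0, _, _, _, _, h => h
  | r + 1, L, hL, n, A, h => AmpleVan.isCoh_tensor
      (isCoh_tensorPows (fun i => L i.castSucc) (fun i => hL _) (fun i => n i.castSucc) h)
      (AmpleVan.isCoh_invertible (InvX.isInvertible_tensorPow (hL (Fin.last r)) (n (Fin.last r))))

theorem support_tensorPows_subset [IsNoetherian X] : ∀ {r : ℕ} (L : Fin r → X.Modules), (∀ i, PicF.IsInvertible (L i)) →
    ∀ (n : Fin r → ℕ) {A : X.Modules}, Coh.IsCoh A → CohB1.support (Curv2.tensorPows A r L n) ⊆ CohB1.support A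
  | 0, _, _, _, _, _ => subset_rfl
  | r + 1, L, hL, n, A, h => fun x hx => by
    let T := Curv2.tensorPows A r (fun i => L i.castSucc) fun i => n i.castSucc
    have hT : Coh.IsCoh T := isCoh_tensorPows _ (fun i => hL _) _ h
    let P := CohB1.tensorPow (L (Fin.last r)) (n (Fin.last r))
    have hP := AmpleVan.isCoh_invertible (InvX.isInvertible_tensorPow (hL (Fin.last r)) (n (Fin.last r)))
    refine support_tensorPows_subset (fun i => L i.castSucc) (fun i => hL _) (fun i => n i.castSucc) h (CurveTensor.support_tensor_subset (E := P) (F := T) ?_)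
    exact QCoh.mem_support_of_mono (AmpleVan.isCoh_tensor hT hP).1 (AmpleVan.isCoh_tensor hP hT).1
      (CurveTensor.commIso T P).hom hx

/-- Twisting commutes with tensoring on the left. -/
theorem tensorPows_swap (N : X.Modules) : ∀ {r : ℕ} (L : Fin r → X.Modules) (n : Fin r → ℕ) (M : X.Modules),
    Nonempty (Curv2.tensorPows (CohB1.tensorMod N M) r L n ≅ CohB1.tensorMod N (Curv2.tensorPows M r L n))
  | 0, _, _, _ => ⟨Iso.refl _⟩
  | r + 1, L, n, M => by
    obtain ⟨e⟩ := tensorPows_swap N (fun i => L i.castSucc) (fun i => n i.castSucc) M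
    exact ⟨(AmpleVan.tw (CohB1.tensorPow (L (Fin.last r)) (n (Fin.last r)))).mapIso e ≪≫ AmpleVan.assocT _ _ _⟩

/-- Raising one exponent is tensoring with that factor. -/
theorem tensorPows_bump : ∀ {r : ℕ} (L : Fin r → X.Modules) (n : Fin r → ℕ) (i : Fin r) (M : X.Modules),
    Nonempty (CohB1.tensorMod (L i) (Curv2.tensorPows M r L n) ≅
      Curv2.tensorPows M r L (Function.update n i (n i + 1)))
  | 0, _, _, i, _ => i.elim0
  | r + 1, L, n, i, M => by
    let T := Curv2.tensorPows M r (fun i => L i.castSucc) fun i => n i.castSucc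
    refine Fin.lastCases ?_ (fun j => ?_) i
    · show Nonempty (_ ≅ CohB1.tensorMod (Curv2.tensorPows M r (fun i => L i.castSucc)
        fun i => Function.update n (Fin.last r) (n (Fin.last r) + 1) i.castSucc)
        (CohB1.tensorPow (L (Fin.last r)) (Function.update n (Fin.last r) (n (Fin.last r) + 1) (Fin.last r))))
      rw [Function.update_self, show (fun i : Fin r => Function.update n (Fin.last r) (n (Fin.last r) + 1) i.castSucc) =
        fun i => n i.castSucc from funext fun i => Function.update_of_ne (Fin.castSucc_ne_last i) _ _]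
      exact ⟨(AmpleVan.assocT (L (Fin.last r)) T (CohB1.tensorPow (L (Fin.last r)) (n (Fin.last r)))).symm ≪≫
        twistSuccIso (L (Fin.last r)) T (n (Fin.last r))⟩
    · obtain ⟨e⟩ := tensorPows_bump (fun i => L i.castSucc) (fun i => n i.castSucc) j M
      show Nonempty (_ ≅ CohB1.tensorMod (Curv2.tensorPows M r (fun i => L i.castSucc)
        fun i => Function.update n j.castSucc (n j.castSucc + 1) i.castSucc)
        (CohB1.tensorPow (L (Fin.last r)) (Function.update n j.castSucc (n j.castSucc + 1) (Fin.last r))))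
      rw [Function.update_of_ne (Fin.castSucc_ne_last j).symm, show (fun i : Fin r =>
        Function.update n j.castSucc (n j.castSucc + 1) i.castSucc) =
          Function.update (fun i => n i.castSucc) j (n j.castSucc + 1) from
        Function.update_comp_eq_of_injective n (Fin.castSucc_injective r) j _]
      exact ⟨(AmpleVan.assocT (L j.castSucc) T (CohB1.tensorPow (L (Fin.last r)) (n (Fin.last r)))).symm ≪≫
        (AmpleVan.tw (CohB1.tensorPow (L (Fin.last r)) (n (Fin.last r)))).mapIso e⟩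

/-- Isomorphic modules have isomorphic twists. -/
theorem tensorPows_congr : ∀ {r : ℕ} (L : Fin r → X.Modules) (n : Fin r → ℕ) {A B : X.Modules}, (A ≅ B) →
    Nonempty (Curv2.tensorPows A r L n ≅ Curv2.tensorPows B r L n)
  | 0, _, _, _, _, e => ⟨e⟩
  | r + 1, L, n, _, _, e => by
    obtain ⟨e'⟩ := tensorPows_congr (fun i => L i.castSucc) (fun i => n i.castSucc) e
    exact ⟨(AmpleVan.tw (CohB1.tensorPow (L (Fin.last r)) (n (Fin.last r)))).mapIso e'⟩

/-- A list product with one more factor. -/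
theorem tensorList_append (P : X.Modules) : ∀ (l : List X.Modules) (F : X.Modules),
    Nonempty (CohB1.tensorMod (FGA.tensorList (l ++ [P])) F ≅
      CohB1.tensorMod (FGA.tensorList l) (CohB1.tensorMod P F))
  | [], F => ⟨AmpleVan.assocT P (Coh.structureModule X) F ≪≫
      PicGrp.tensorModIso (Iso.refl P) (CurveTensor.structureTensorIso F) ≪≫
      (CurveTensor.structureTensorIso (CohB1.tensorMod P F)).symm⟩
  | M :: l, F => by
    obtain ⟨e⟩ := tensorList_append P l F
    exact ⟨AmpleVan.assocT M _ F ≪≫ PicGrp.tensorModIso (Iso.refl M) e ≪≫ (AmpleVan.assocT M _ _).symm⟩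

/-- The list product agrees with the iterated twist. -/
theorem multiTwist_iso : ∀ {r : ℕ} (L : Fin r → X.Modules) (n : Fin r → ℕ) (F : X.Modules),
    Nonempty (CohB1.tensorMod (FGA.multiTwist L n) F ≅ Curv2.tensorPows F r L n)
  | 0, _, _, F => ⟨CurveTensor.structureTensorIso F⟩
  | r + 1, L, n, F => by
    let P := CohB1.tensorPow (L (Fin.last r)) (n (Fin.last r))
    have hl : (List.finRange (r + 1)).map (fun i => CohB1.tensorPow (L i) (n i)) =
        (List.finRange r).map (fun i => CohB1.tensorPow (L i.castSucc) (n i.castSucc)) ++ [P] := by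
      rw [List.finRange_succ_last, List.map_append, List.map_map]
      rfl
    obtain ⟨e1⟩ := tensorList_append P
      ((List.finRange r).map fun i => CohB1.tensorPow (L i.castSucc) (n i.castSucc)) F
    obtain ⟨e2⟩ := multiTwist_iso (fun i => L i.castSucc) (fun i => n i.castSucc) (CohB1.tensorMod P F)
    obtain ⟨e3⟩ := tensorPows_swap P (fun i => L i.castSucc) (fun i => n i.castSucc) F
    exact ⟨eqToIso (congrArg (fun l => CohB1.tensorMod (FGA.tensorList l) F) hl) ≪≫ e1 ≪≫ e2 ≪≫ e3 ≪≫
      CurveTensor.commIso _ _⟩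

end Geometry

variable (k : Type u) [Field k] {X : Scheme.{u}} [X.Over (Spec (CommRingCat.of k))]
  [IsProper (X ↘ Spec (CommRingCat.of k))] {r : ℕ} {L : Fin r → X.Modules}

/-- The Euler characteristics of the iterated twists. -/
def χs (L : Fin r → X.Modules) (M : X.Modules) : (Fin r → ℕ) → ℚ :=
  fun n => (Curv2.euler k X (Curv2.tensorPows M r L n) : ℚ)

theorem χs_congr {A B : X.Modules} (e : A ≅ B) (n : Fin r → ℕ) : χs k L A n = χs k L B n :=
  congrArg Int.cast (CurveCohLib.euler_congr (k := k) (tensorPows_congr L n e).some)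

theorem χs_add (hL : ∀ i, PicF.IsInvertible (L i)) {S : ShortComplex X.Modules} (hS : S.ShortExact)
    (h1 : Coh.IsCoh S.X₁) (h2 : Coh.IsCoh S.X₂) (h3 : Coh.IsCoh S.X₃) :
    χs k L S.X₂ = χs k L S.X₁ + χs k L S.X₃ := funext fun n => by
  haveI := CurveCohLib.isNoetherian_of_proper (k := k) (X := X)
  obtain ⟨hA, hB, hC, f, g, w, hS'⟩ := cohSES_tensorPows L hL n ⟨h1, h2, h3, S.f, S.g, S.zero, hS⟩
  show ((Curv2.euler k X _ : ℤ) : ℚ) = ((Curv2.euler k X _ : ℤ) : ℚ) + ((Curv2.euler k X _ : ℤ) : ℚ)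
  exact_mod_cast CurveCohLib.euler_additive (k := k) (S := ShortComplex.mk f g w) hS' hA hB hC

theorem χs_eq_zero (hL : ∀ i, PicF.IsInvertible (L i)) {M : X.Modules} (hM : Coh.IsCoh M)
    (h : CohB1.support M = ∅) (n : Fin r → ℕ) : χs k L M n = 0 := by
  haveI := CurveCohLib.isNoetherian_of_proper (k := k) (X := X)
  have hT := isCoh_tensorPows L hL n hM
  have hz : IsZero (Curv2.tensorPows M r L n) := QCoh.isZero_of_app_eq_zero hT.1 fun W s =>
    TopCat.Presheaf.section_ext ⟨(Curv2.tensorPows M r L n).presheaf, (Curv2.tensorPows M r L n).isSheaf⟩ _ _ _ fun y hy => by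
      haveI : Subsingleton ((Curv2.tensorPows M r L n).presheaf.stalk y) :=
        not_not.1 fun hy' => h.le (support_tensorPows_subset L hL n hM hy')
      exact Subsingleton.elim _ _
  show ((Curv2.euler k X _ : ℤ) : ℚ) = 0
  rw [Euler.euler_eq_sum k _ 0 fun i _ => Euler.subsingleton_HH_of_isZero hz i]
  simp

theorem χs_map (hL : ∀ i, PicF.IsInvertible (L i)) {A B : X.Modules} (hA : Coh.IsCoh A) (hB : Coh.IsCoh B) (φ : A ⟶ B) :
    χs k L A + χs k L (cokernel φ) = χs k L B + χs k L (kernel φ) := by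
  haveI := CurveCohLib.isNoetherian_of_proper (k := k) (X := X)
  have hK := QCoh.isCoh_kernel hA hB φ
  have hC := QCoh.isCoh_cokernel hA.1 hB φ
  have hI : Coh.IsCoh (Abelian.image φ) :=
    QCoh.isCoh_of_epi (Abelian.factorThruImage φ) hA (QCoh.isQCoh_kernel hB.1 hC.1 _)
  have h1 := χs_add k hL (S := ShortComplex.mk (kernel.ι φ) (Abelian.factorThruImage φ)
      ((cancel_mono (Abelian.image.ι φ)).1 (by rw [Category.assoc, Abelian.image.fac, kernel.condition, zero_comp])))
    { exact := ShortComplex.exact_of_f_is_kernel _ (KernelFork.IsLimit.ofι' _ _ fun {T} t ht =>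
        ⟨kernel.lift φ t (by rw [← Abelian.image.fac φ, reassoc_of% ht, zero_comp]), kernel.lift_ι _ _ _⟩)
      mono_f := inferInstance
      epi_g := inferInstance } hK hA hI
  have h2 := χs_add k hL (S := ShortComplex.mk (Abelian.image.ι φ) (cokernel.π φ) (kernel.condition _))
    { exact := ShortComplex.exact_of_f_is_kernel _ (kernelIsKernel (cokernel.π φ))
      mono_f := inferInstance
      epi_g := inferInstance } hI hB hC
  dsimp only at h1 h2
  rw [h1, h2]
  abel

theorem isMPolyLt_sub_of_isoOn (hL : ∀ i, PicF.IsInvertible (L i)) {d : ℕ} {C : Set X} {U : X.Opens}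
    (IH : ∀ M : X.Modules, Coh.IsCoh M → CohB1.support M ⊆ C \ U → IsMPolyLt d (χs k L M))
    {A B : X.Modules} (hA : Coh.IsCoh A) (hB : Coh.IsCoh B) (hAC : CohB1.support A ⊆ C)
    (hBC : CohB1.support B ⊆ C) (φ : A ⟶ B) (hφ : IsoOn U φ) : IsMPolyLt d (χs k L A - χs k L B) := by
  haveI := CurveCohLib.isNoetherian_of_proper (k := k) (X := X)
  obtain ⟨hk, hc⟩ := support_subset_compl hφ
  obtain ⟨hk', hc'⟩ := support_sub_of_map hA hB φ
  have h := χs_map k hL hA hB φ
  refine ((IH _ (QCoh.isCoh_kernel hA hB φ) fun x hx => ⟨hAC (hk' hx), hk hx⟩).sub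
    (IH _ (QCoh.isCoh_cokernel hA.1 hB φ) fun x hx => ⟨hBC (hc' hx), hc hx⟩)).congr fun n => ?_
  have := congrFun h n
  simp only [Pi.add_apply, Pi.sub_apply] at this ⊢
  linarith

theorem isMPolyLt_diff (hL : ∀ i, PicF.IsInvertible (L i)) {d : ℕ} {C : Closeds X} {U : X.Opens} (i : Fin r)
    {e : Γ(L i, U)} (he : InvX.IsFrame e)
    (IH : ∀ M : X.Modules, Coh.IsCoh M → CohB1.support M ⊆ (C : Set X) \ U → IsMPolyLt d (χs k L M))
    {M : X.Modules} (hM : Coh.IsCoh M) (hMC : CohB1.support M ⊆ C) :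
    IsMPolyLt d fun n => χs k L M (Function.update n i (n i + 1)) - χs k L M n := by
  haveI := CurveCohLib.isNoetherian_of_proper (k := k) (X := X)
  obtain ⟨K, I, a, b, c, hK, hI, ha, hb, hc⟩ := exists_link_frame (hL i) he
  have hLc := AmpleVan.isCoh_invertible (hL i)
  let F := AmpleVan.tw M
  have hsupp : ∀ A, CohB1.support (F.obj A) ⊆ C := fun A => fun x hx => hMC (CurveTensor.support_tensor_subset hx)
  have hcoh : ∀ {A}, Coh.IsCoh A → Coh.IsCoh (F.obj A) := fun h => AmpleVan.isCoh_tensor h hM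
  have e1 := isMPolyLt_sub_of_isoOn k hL IH (hcoh hK) (hcoh QCoh.isCoh_structureModule') (hsupp _) (hsupp _) _ (ha.tensor M)
  have e2 := isMPolyLt_sub_of_isoOn k hL IH (hcoh hK) (hcoh hI) (hsupp _) (hsupp _) _ (hb.tensor M)
  have e3 := isMPolyLt_sub_of_isoOn k hL IH (hcoh hLc) (hcoh hI) (hsupp _) (hsupp _) _ (hc.tensor M)
  refine ((e1.sub e2).add e3).congr fun n => ?_
  have h1 : χs k L (F.obj (Coh.structureModule X)) n = χs k L M n :=
    χs_congr k (CurveTensor.structureTensorIso M) n
  have h2 : χs k L (F.obj (L i)) n = χs k L M (Function.update n i (n i + 1)) :=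
    congrArg Int.cast (CurveCohLib.euler_congr (k := k)
      ((tensorPows_swap (L i) L n M).some ≪≫ (tensorPows_bump L n i M).some))
  simp only [Pi.add_apply, Pi.sub_apply]
  rw [← h1, ← h2]
  ring

theorem isMPolyLt_of_split (hL : ∀ i, PicF.IsInvertible (L i)) {d : ℕ} {C C₁ C₂ : Closeds X}
    (hC : (C : Set X) ⊆ ↑C₁ ∪ ↑C₂)
    (h₁ : ∀ M : X.Modules, Coh.IsCoh M → CohB1.support M ⊆ C₁ → IsMPolyLt d (χs k L M))
    (h₂ : ∀ M : X.Modules, Coh.IsCoh M → CohB1.support M ⊆ C₂ → IsMPolyLt d (χs k L M))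
    {M : X.Modules} (hM : Coh.IsCoh M) (hMC : CohB1.support M ⊆ C) : IsMPolyLt d (χs k L M) := by
  haveI := CurveCohLib.isNoetherian_of_proper (k := k) (X := X)
  let U : X.Opens := ⟨(C₂ : Set X)ᶜ, C₂.isClosed.isOpen_compl⟩
  let φ := resMap U M
  have hQ : Coh.IsQCoh ((Scheme.Modules.pushforward U.ι).obj (M.restrict U.ι)) :=
    QCoh.isQCoh_pushforward U.ι (QCoh.isQCoh_restrict U.ι hM.1)
  have hco := QCoh.isQCoh_cokernel hM.1 hQ φ
  have hI : Coh.IsCoh (Abelian.image φ) :=
    QCoh.isCoh_of_epi (Abelian.factorThruImage φ) hM (QCoh.isQCoh_kernel hQ hco _)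
  have hK : Coh.IsCoh (kernel φ) := QCoh.isCoh_of_mono (kernel.ι φ) hM (QCoh.isQCoh_kernel hM.1 hQ φ)
  have e : χs k L M = χs k L (kernel φ) + χs k L (Abelian.image φ) := χs_add k hL
    (S := ShortComplex.mk (kernel.ι φ) (Abelian.factorThruImage φ)
      ((cancel_mono (Abelian.image.ι φ)).1 (by rw [Category.assoc, Abelian.image.fac, kernel.condition, zero_comp])))
    { exact := ShortComplex.exact_of_f_is_kernel _ (KernelFork.IsLimit.ofι' _ _ fun {T} t ht =>
        ⟨kernel.lift φ t (by rw [← Abelian.image.fac φ, reassoc_of% ht, zero_comp]), kernel.lift_ι _ _ _⟩)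
      mono_f := inferInstance
      epi_g := inferInstance } hK hM hI
  rw [e]
  refine (h₂ _ hK fun x hx => ?_).add (h₁ _ hI fun x hx => ?_)
  · exact not_not.1 fun hx2 => (support_subset_compl (isoOn_resMap U M)).1 hx (show x ∈ U from hx2)
  · by_contra hx1
    have hP := QCoh.mem_support_of_mono hI.1 hQ (Abelian.image.ι φ) hx
    refine notMem_support_push (W := ⟨(C₁ : Set X)ᶜ, C₁.isClosed.isOpen_compl⟩) hx1 ?_ hP
    exact Set.disjoint_left.2 fun y hy hyM => (hC (hMC hyM)).elim hy.1 hy.2

/-- Snapper's theorem. -/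
theorem isMPolyLt_of_dim_lt (hL : ∀ i, PicF.IsInvertible (L i)) (d : ℕ) :
    ∀ (C : Closeds X), topologicalKrullDim ↥(C : Set X) < (d : WithBot ℕ∞) →
      ∀ M : X.Modules, Coh.IsCoh M → CohB1.support M ⊆ C → IsMPolyLt d (χs k L M) := by
  haveI := CurveCohLib.isNoetherian_of_proper (k := k) (X := X)
  have hempty : ∀ (d : ℕ) (M : X.Modules), Coh.IsCoh M → CohB1.support M = ∅ → IsMPolyLt d (χs k L M) :=
    fun d M hM h => ⟨0, degLt_zero d, fun n => by simp [χs_eq_zero k hL hM h n]⟩
  induction d with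
  | zero =>
    intro C hC M hM hMC
    refine hempty 0 M hM (Set.eq_empty_of_forall_notMem fun x hx => ?_)
    haveI : Nonempty ↥(C : Set X) := ⟨⟨x, hMC hx⟩⟩
    haveI : Nonempty (IrreducibleCloseds ↥(C : Set X)) :=
      ⟨⟨closure {⟨x, hMC hx⟩}, isIrreducible_singleton.closure, isClosed_closure⟩⟩
    exact absurd hC (not_lt.2 (by exact_mod_cast Order.krullDim_nonneg))
  | succ d IHd =>
    intro C
    induction C using WellFoundedLT.induction with
    | ind C IH =>
      intro hC M hM hMC
      rcases Set.eq_empty_or_nonempty (C : Set X) with h0 | hne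
      · exact hempty _ M hM (Set.subset_empty_iff.1 (h0 ▸ hMC))
      by_cases hirr : IsIrreducible (C : Set X)
      · obtain ⟨η, hη⟩ := QuasiSober.sober hirr C.isClosed
        have hηC : η ∈ (C : Set X) := hη.mem
        refine exists_mpoly_of_diff _ fun i => ?_
        obtain ⟨U, hηU, e, he⟩ := InvX.exists_frame (hL i) η
        refine isMPolyLt_diff k hL i he (fun N hN hNs => IHd ⟨_, C.isClosed.sdiff U.2⟩ ?_ N hN hNs) hM hMC
        haveI : IrreducibleSpace ↥(C : Set X) := isIrreducible_iff_irreducibleSpace.1 hirr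
        let Y : Set ↥(C : Set X) := {y | (y : X) ∈ (U : Set X)ᶜ}
        have hlt := H23.TopDim.dim_lt_of_ssubset (X := ↥(C : Set X)) (fun h => by rw [h] at hC; exact not_top_lt hC)
          (Y := Y) (U.2.isClosed_compl.preimage continuous_subtype_val)
          (fun h => (h.ge (Set.mem_univ ⟨η, hηC⟩) : η ∈ (U : Set X)ᶜ) hηU)
        have hle : topologicalKrullDim ↥((C : Set X) \ U) ≤ topologicalKrullDim ↥Y := by
          let g : ↥((C : Set X) \ U) → ↥Y := fun p => ⟨⟨p.1, p.2.1⟩, p.2.2⟩
          have hcomp : Topology.IsInducing ((Subtype.val ∘ Subtype.val : ↥Y → X) ∘ g) :=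
            show Topology.IsInducing (Subtype.val : ↥((C : Set X) \ U) → X) from Topology.IsInducing.subtypeVal
          exact ((Topology.IsInducing.subtypeVal.comp Topology.IsInducing.subtypeVal).of_comp_iff.1 hcomp).topologicalKrullDim_le
        refine lt_of_le_of_lt hle ?_
        revert hlt hC
        generalize topologicalKrullDim ↥Y = a
        generalize topologicalKrullDim ↥(C : Set X) = b
        intro hC hlt
        cases a with
        | bot => exact WithBot.bot_lt_coe _
        | coe a =>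
          cases b with
          | bot => exact absurd hlt not_lt_bot
          | coe b =>
            have h1 : a < b := WithBot.coe_lt_coe.1 hlt
            have h2 : b < ((d + 1 : ℕ) : ℕ∞) := WithBot.coe_lt_coe.1 hC
            refine WithBot.coe_lt_coe.2 (lt_of_lt_of_le h1 ?_)
            exact ENat.lt_add_one_iff (ENat.natCast_ne_top d) |>.1 (by exact_mod_cast h2)
      · obtain ⟨A, B, hA, hB, hsub, hnA, hnB⟩ : ∃ A B : Set X, IsClosed A ∧ IsClosed B ∧
            (C : Set X) ⊆ A ∪ B ∧ ¬ (C : Set X) ⊆ A ∧ ¬ (C : Set X) ⊆ B := by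
          by_contra! hno
          exact hirr ⟨hne, isPreirreducible_iff_isClosed_union_isClosed.2 fun A B hA hB hs =>
            or_iff_not_imp_left.2 fun hA' => hno A B hA hB hs hA'⟩
        let C₁ : Closeds X := ⟨(C : Set X) ∩ A, C.isClosed.inter hA⟩
        let C₂ : Closeds X := ⟨(C : Set X) ∩ B, C.isClosed.inter hB⟩
        have h1 : C₁ < C := lt_of_le_of_ne (Set.inter_subset_left : (C : Set X) ∩ A ⊆ C)
          fun h => hnA (Set.inter_eq_left.1 (congrArg (SetLike.coe) h))
        have h2 : C₂ < C := lt_of_le_of_ne (Set.inter_subset_left : (C : Set X) ∩ B ⊆ C)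
          fun h => hnB (Set.inter_eq_left.1 (congrArg (SetLike.coe) h))
        have hdim : ∀ C' : Closeds X, C' ≤ C → topologicalKrullDim ↥(C' : Set X) < ((d + 1 : ℕ) : WithBot ℕ∞) :=
          fun C' h => lt_of_le_of_lt (H23.TopDim.dim_le_dim_of_subset (show (C' : Set X) ⊆ C from h)) hC
        refine isMPolyLt_of_split k hL (C := C) (C₁ := C₁) (C₂ := C₂)
          (fun x hx => (hsub hx).imp (fun h => ⟨hx, h⟩) fun h => ⟨hx, h⟩)
          (IH C₁ h1 (hdim C₁ h1.le)) (IH C₂ h2 (hdim C₂ h2.le)) hM hMC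

/-- Snapper's theorem, with a bound on the total degree. -/
theorem exists_mpoly (hL : ∀ i, PicF.IsInvertible (L i)) {M : X.Modules} (hM : Coh.IsCoh M) {d : ℕ}
    (hd : topologicalKrullDim ↥(CohB1.support M) ≤ d) :
    ∃ P : MvPolynomial (Fin r) ℚ, P.totalDegree ≤ d ∧
      ∀ n, (Curv2.euler k X (Curv2.tensorPows M r L n) : ℚ) = MvPolynomial.eval (fun i => (n i : ℚ)) P := by
  obtain ⟨P, hP, hPn⟩ := isMPolyLt_of_dim_lt k hL (d + 1)
    ⟨_, QCoh.isClosed_support_of_isFT hM.1 hM.2⟩ (lt_of_le_of_lt hd (by exact_mod_cast Nat.lt_succ_self d)) M hM subset_rfl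
  exact ⟨P, hP.totalDegree_le, hPn⟩

end Groth.Agent.Snapper
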