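import Mathlib.NumberTheory.BernoulliPolynomials
import Mathlib.Algebra.Polynomial.Degree.Operations

/-! Discrete antiderivatives of polynomials. -/

noncomputable section

open Polynomial

namespace Groth.Agent.Snapper

theorem natDegree_bernoulli_le (n : ℕ) : (Polynomial.bernoulli n).natDegree ≤ n := by
  rw [Polynomial.bernoulli_def]
  refine natDegree_sum_le_of_forall_le _ _ fun i hi => ?_
  exact (natDegree_monomial_le _).trans (Nat.le_of_lt_succ (Finset.mem_range.1 hi))

/-- A polynomial of degree below `d` is the difference sequence of one of degree below `d + 1`. -/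
theorem exists_antidiff {d : ℕ} {Q : ℚ[X]} (hQ : Q.degree < (d : WithBot ℕ)) :
    ∃ R : ℚ[X], R.degree < ((d + 1 : ℕ) : WithBot ℕ) ∧
      ∀ n : ℕ, R.eval ((n : ℚ) + 1) - R.eval (n : ℚ) = Q.eval (n : ℚ) := by
  refine ⟨∑ j ∈ Finset.range d, C (Q.coeff j / ((j : ℚ) + 1)) * Polynomial.bernoulli (j + 1), ?_, fun n => ?_⟩
  · refine (degree_sum_le _ _).trans_lt ((Finset.sup_lt_iff (WithBot.bot_lt_coe _)).2 fun j hj => ?_)
    rw [Finset.mem_range] at hj
    refine lt_of_le_of_lt degree_le_natDegree ?_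
    have h1 := (natDegree_C_mul_le (Q.coeff j / ((j : ℚ) + 1)) (Polynomial.bernoulli (j + 1))).trans (natDegree_bernoulli_le _)
    exact Nat.cast_lt.2 (show _ < d + 1 by omega)
  · rw [eval_finsetSum, eval_finsetSum, ← Finset.sum_sub_distrib]
    have hQn : Q.eval (n : ℚ) = ∑ j ∈ Finset.range d, Q.coeff j * (n : ℚ) ^ j := by
      by_cases h0 : Q = 0
      · simp [h0]
      · exact eval_eq_sum_range' ((natDegree_lt_iff_degree_lt h0).2 hQ) _
    rw [hQn]
    refine Finset.sum_congr rfl fun j _ => ?_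
    rw [eval_mul, eval_mul, eval_C, eval_C, ← mul_sub, add_comm (n : ℚ) 1, Polynomial.bernoulli_eval_one_add, add_sub_cancel_left,
      Nat.add_sub_cancel]
    have : ((j : ℚ) + 1) ≠ 0 := by positivity
    push_cast
    field_simp

/-- A sequence whose differences are polynomial of degree below `d` is polynomial of degree below `d + 1`. -/
theorem exists_poly_of_diff {d : ℕ} (f : ℕ → ℚ) {Q : ℚ[X]} (hQ : Q.degree < (d : WithBot ℕ))
    (h : ∀ n : ℕ, f (n + 1) - f n = Q.eval (n : ℚ)) :
    ∃ R : ℚ[X], R.degree < ((d + 1 : ℕ) : WithBot ℕ) ∧ ∀ n : ℕ, f n = R.eval (n : ℚ) := by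
  obtain ⟨R, hR, hdiff⟩ := exists_antidiff hQ
  refine ⟨R + C (f 0 - R.eval 0), (degree_add_le _ _).trans_lt (max_lt hR
    (degree_C_le.trans_lt (by exact_mod_cast Nat.succ_pos d))), fun n => ?_⟩
  induction n with
  | zero => simp
  | succ m ih =>
    have h1 := h m
    have h2 := hdiff m
    simp only [eval_add, eval_C, Nat.cast_add, Nat.cast_one] at ih ⊢
    linarith

end Groth.Agent.Snapper
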