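import Groth.Agent.Snapper.IsoOn
import Groth.Agent.Snapper.Poly
import Groth.Agent.ParShLib.Additive
import Groth.Agent.Lib.CurveTensor
import Groth.Agent.H23.TopDim
import Groth.Agent.Lib.Euler
import Groth.Agent.CurveCohLib.Rank

/-! Snapper's theorem for the powers of one invertible module. -/

noncomputable section

set_option linter.style.haveILetI false
set_option linter.unusedSectionVars false
set_option backward.isDefEq.respectTransparency false
set_option backward.isDefEq.respectTransparency.types false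

universe u

open CategoryTheory CategoryTheory.Limits AlgebraicGeometry TopologicalSpace Opposite

namespace Groth.Agent.Snapper

open Groth.Agent

/-- Values of a polynomial of degree below `d`. -/
def IsPolyLt (d : ℕ) (f : ℕ → ℚ) : Prop :=
  ∃ Q : Polynomial ℚ, Q.degree < (d : WithBot ℕ) ∧ ∀ n, f n = Q.eval (n : ℚ)

theorem IsPolyLt.congr {d : ℕ} {f g : ℕ → ℚ} (h : IsPolyLt d f) (e : ∀ n, g n = f n) : IsPolyLt d g :=
  let ⟨Q, hQ, h⟩ := h; ⟨Q, hQ, fun n => (e n).trans (h n)⟩

theorem IsPolyLt.add {d : ℕ} {f g : ℕ → ℚ} (h : IsPolyLt d f) (h' : IsPolyLt d g) : IsPolyLt d (f + g) :=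
  let ⟨Q, hQ, h⟩ := h; let ⟨Q', hQ', h'⟩ := h'
  ⟨Q + Q', (Polynomial.degree_add_le _ _).trans_lt (max_lt hQ hQ'), fun n => by simp [h n, h' n]⟩

theorem IsPolyLt.sub {d : ℕ} {f g : ℕ → ℚ} (h : IsPolyLt d f) (h' : IsPolyLt d g) : IsPolyLt d (f - g) :=
  let ⟨Q, hQ, h⟩ := h; let ⟨Q', hQ', h'⟩ := h'
  ⟨Q - Q', (Polynomial.degree_sub_le _ _).trans_lt (max_lt hQ hQ'), fun n => by simp [h n, h' n]⟩

variable (k : Type u) [Field k] {X : Scheme.{u}} [X.Over (Spec (CommRingCat.of k))]

/-- The Euler characteristics of the twists. -/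
def χ (L M : X.Modules) : ℕ → ℚ := fun m => (Curv2.euler k X (ShStab.twist X L M m) : ℚ)

variable [IsProper (X ↘ Spec (CommRingCat.of k))] {L : X.Modules}

theorem χ_add (hL : PicF.IsInvertible L) {S : ShortComplex X.Modules} (hS : S.ShortExact)
    (h1 : Coh.IsCoh S.X₁) (h2 : Coh.IsCoh S.X₂) (h3 : Coh.IsCoh S.X₃) :
    χ k L S.X₂ = χ k L S.X₁ + χ k L S.X₃ := funext fun m => by
  show ((Curv2.euler k X _ : ℤ) : ℚ) = ((Curv2.euler k X _ : ℤ) : ℚ) + ((Curv2.euler k X _ : ℤ) : ℚ)
  exact_mod_cast ParShLib.euler_twist_add k hS h1 h2 h3 hL m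

theorem χ_eq_zero (hL : PicF.IsInvertible L) {M : X.Modules} (hM : Coh.IsQCoh M)
    (h : CohB1.support M = ∅) (m : ℕ) : χ k L M m = 0 := by
  haveI := CurveCohLib.isNoetherian_of_proper (k := k) (X := X)
  have hz : IsZero M := QCoh.isZero_of_app_eq_zero hM fun W s =>
    TopCat.Presheaf.section_ext ⟨M.presheaf, M.isSheaf⟩ _ _ _ fun y hy => by
      haveI : Subsingleton (M.presheaf.stalk y) := not_not.1 fun hy' => h.le hy'
      exact Subsingleton.elim _ _
  let N := CohB1.tensorPow L m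
  haveI := AmpleVan.isEquivalence_tw (InvX.isInvertible_tensorPow hL m)
  have hzt : IsZero ((AmpleVan.tw N).obj M) := (AmpleVan.tw N).map_isZero hz
  show ((Curv2.euler k X ((AmpleVan.tw N).obj M) : ℤ) : ℚ) = 0
  rw [Euler.euler_eq_sum k _ 0 fun i _ => Euler.subsingleton_HH_of_isZero hzt i]
  simp

theorem χ_map (hL : PicF.IsInvertible L) {A B : X.Modules} (hA : Coh.IsCoh A) (hB : Coh.IsCoh B) (φ : A ⟶ B) :
    χ k L A + χ k L (cokernel φ) = χ k L B + χ k L (kernel φ) := by
  haveI := CurveCohLib.isNoetherian_of_proper (k := k) (X := X)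
  have hK := QCoh.isCoh_kernel hA hB φ
  have hC := QCoh.isCoh_cokernel hA.1 hB φ
  have hI : Coh.IsCoh (Abelian.image φ) :=
    QCoh.isCoh_of_epi (Abelian.factorThruImage φ) hA (QCoh.isQCoh_kernel hB.1 hC.1 _)
  have h1 := χ_add k hL (S := ShortComplex.mk (kernel.ι φ) (Abelian.factorThruImage φ)
      ((cancel_mono (Abelian.image.ι φ)).1 (by rw [Category.assoc, Abelian.image.fac, kernel.condition, zero_comp])))
    { exact := ShortComplex.exact_of_f_is_kernel _ (KernelFork.IsLimit.ofι' _ _ fun {T} t ht =>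
        ⟨kernel.lift φ t (by rw [← Abelian.image.fac φ, reassoc_of% ht, zero_comp]), kernel.lift_ι _ _ _⟩)
      mono_f := inferInstance
      epi_g := inferInstance } hK hA hI
  have h2 := χ_add k hL (S := ShortComplex.mk (Abelian.image.ι φ) (cokernel.π φ) (kernel.condition _))
    { exact := ShortComplex.exact_of_f_is_kernel _ (kernelIsKernel (cokernel.π φ))
      mono_f := inferInstance
      epi_g := inferInstance } hI hB hC
  dsimp only at h1 h2
  rw [h1, h2]
  abel

theorem support_sub_of_map {A B : X.Modules} (hA : Coh.IsCoh A) (hB : Coh.IsCoh B) (φ : A ⟶ B) :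
    CohB1.support (kernel φ) ⊆ CohB1.support A ∧ CohB1.support (cokernel φ) ⊆ CohB1.support B :=
  ⟨QCoh.mem_support_of_mono (QCoh.isQCoh_kernel hA.1 hB.1 φ) hA.1 (kernel.ι φ),
    QCoh.support_of_epi hB.1 (QCoh.isQCoh_cokernel hA.1 hB.1 φ) (cokernel.π φ)⟩

/-- Modules linked over `U` have the same Euler characteristics up to the error supported outside. -/
theorem isPolyLt_sub_of_isoOn (hL : PicF.IsInvertible L) {d : ℕ} {C : Set X} {U : X.Opens}
    (IH : ∀ M : X.Modules, Coh.IsCoh M → CohB1.support M ⊆ C \ U → IsPolyLt d (χ k L M))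
    {A B : X.Modules} (hA : Coh.IsCoh A) (hB : Coh.IsCoh B) (hAC : CohB1.support A ⊆ C)
    (hBC : CohB1.support B ⊆ C) (φ : A ⟶ B) (hφ : IsoOn U φ) : IsPolyLt d (χ k L A - χ k L B) := by
  haveI := CurveCohLib.isNoetherian_of_proper (k := k) (X := X)
  obtain ⟨hk, hc⟩ := support_subset_compl hφ
  obtain ⟨hk', hc'⟩ := support_sub_of_map hA hB φ
  have h := χ_map k hL hA hB φ
  refine ((IH _ (QCoh.isCoh_kernel hA hB φ) fun x hx => ⟨hAC (hk' hx), hk hx⟩).sub
    (IH _ (QCoh.isCoh_cokernel hA.1 hB φ) fun x hx => ⟨hBC (hc' hx), hc hx⟩)).congr fun n => ?_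
  have := congrFun h n
  simp only [Pi.add_apply, Pi.sub_apply] at this ⊢
  linarith

/-- A split into pieces with smaller supports. -/
theorem isPolyLt_of_split (hL : PicF.IsInvertible L) {d : ℕ} {C C₁ C₂ : Closeds X} (hC : (C : Set X) ⊆ ↑C₁ ∪ ↑C₂)
    (h₁ : ∀ M : X.Modules, Coh.IsCoh M → CohB1.support M ⊆ C₁ → IsPolyLt d (χ k L M))
    (h₂ : ∀ M : X.Modules, Coh.IsCoh M → CohB1.support M ⊆ C₂ → IsPolyLt d (χ k L M))
    {M : X.Modules} (hM : Coh.IsCoh M) (hMC : CohB1.support M ⊆ C) : IsPolyLt d (χ k L M) := by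
  haveI := CurveCohLib.isNoetherian_of_proper (k := k) (X := X)
  let U : X.Opens := ⟨(C₂ : Set X)ᶜ, C₂.isClosed.isOpen_compl⟩
  let φ := resMap U M
  have hQ : Coh.IsQCoh ((Scheme.Modules.pushforward U.ι).obj (M.restrict U.ι)) :=
    QCoh.isQCoh_pushforward U.ι (QCoh.isQCoh_restrict U.ι hM.1)
  have hco := QCoh.isQCoh_cokernel hM.1 hQ φ
  have hI : Coh.IsCoh (Abelian.image φ) :=
    QCoh.isCoh_of_epi (Abelian.factorThruImage φ) hM (QCoh.isQCoh_kernel hQ hco _)
  have hK : Coh.IsCoh (kernel φ) := QCoh.isCoh_of_mono (kernel.ι φ) hM (QCoh.isQCoh_kernel hM.1 hQ φ)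
  have e : χ k L M = χ k L (kernel φ) + χ k L (Abelian.image φ) := χ_add k hL
    (S := ShortComplex.mk (kernel.ι φ) (Abelian.factorThruImage φ)
      ((cancel_mono (Abelian.image.ι φ)).1 (by rw [Category.assoc, Abelian.image.fac, kernel.condition, zero_comp])))
    { exact := ShortComplex.exact_of_f_is_kernel _ (KernelFork.IsLimit.ofι' _ _ fun {T} t ht =>
        ⟨kernel.lift φ t (by rw [← Abelian.image.fac φ, reassoc_of% ht, zero_comp]), kernel.lift_ι _ _ _⟩)
      mono_f := inferInstance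
      epi_g := inferInstance } hK hM hI
  rw [e]
  refine (h₂ _ hK fun x hx => ?_).add (h₁ _ hI fun x hx => ?_)
  · exact not_not.1 fun hx2 => (support_subset_compl (isoOn_resMap U M)).1 hx (show x ∈ U from hx2)
  · by_contra hx1
    have hP := QCoh.mem_support_of_mono hI.1 hQ (Abelian.image.ι φ) hx
    refine notMem_support_push (W := ⟨(C₁ : Set X)ᶜ, C₁.isClosed.isOpen_compl⟩) hx1 ?_ hP
    exact Set.disjoint_left.2 fun y hy hyM => (hC (hMC hyM)).elim hy.1 hy.2

/-- Twisting twice. -/
def twistSuccIso (L M : X.Modules) (m : ℕ) :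
    ShStab.twist X L ((AmpleVan.tw M).obj L) m ≅ ShStab.twist X L M (m + 1) :=
  (AmpleVan.assocT L M (CohB1.tensorPow L m)) ≪≫
    (show CohB1.tensorMod L (CohB1.tensorMod M (CohB1.tensorPow L m)) ≅
        CohB1.tensorMod (CohB1.tensorMod M (CohB1.tensorPow L m)) L from
      CurveTensor.commIso L (CohB1.tensorMod M (CohB1.tensorPow L m))) ≪≫
    AmpleVan.assocT M (CohB1.tensorPow L m) L

/-- The one step of Snapper's argument. -/
theorem isPolyLt_step (hL : PicF.IsInvertible L) {d : ℕ} {C : Closeds X} {U : X.Opens} {e : Γ(L, U)}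
    (he : InvX.IsFrame e)
    (IH : ∀ M : X.Modules, Coh.IsCoh M → CohB1.support M ⊆ (C : Set X) \ U → IsPolyLt d (χ k L M))
    {M : X.Modules} (hM : Coh.IsCoh M) (hMC : CohB1.support M ⊆ C) : IsPolyLt (d + 1) (χ k L M) := by
  haveI := CurveCohLib.isNoetherian_of_proper (k := k) (X := X)
  obtain ⟨K, I, a, b, c, hK, hI, ha, hb, hc⟩ := exists_link_frame hL he
  have hLc := AmpleVan.isCoh_invertible hL
  let F := AmpleVan.tw M
  have hsupp : ∀ A, CohB1.support (F.obj A) ⊆ C := fun A => fun x hx => hMC (CurveTensor.support_tensor_subset hx)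
  have hcoh : ∀ {A}, Coh.IsCoh A → Coh.IsCoh (F.obj A) := fun h => AmpleVan.isCoh_tensor h hM
  have e1 := isPolyLt_sub_of_isoOn k hL IH (hcoh hK) (hcoh QCoh.isCoh_structureModule') (hsupp _) (hsupp _) _ (ha.tensor M)
  have e2 := isPolyLt_sub_of_isoOn k hL IH (hcoh hK) (hcoh hI) (hsupp _) (hsupp _) _ (hb.tensor M)
  have e3 := isPolyLt_sub_of_isoOn k hL IH (hcoh hLc) (hcoh hI) (hsupp _) (hsupp _) _ (hc.tensor M)
  obtain ⟨Q, hQ, hQn⟩ := (e1.sub e2).add e3
  obtain ⟨R, hR, hRn⟩ := exists_poly_of_diff (χ k L M) hQ fun n => by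
    have h1 : χ k L (F.obj (Coh.structureModule X)) n = χ k L M n :=
      congrArg Int.cast (CurveCohLib.euler_congr (k := k)
        ((AmpleVan.tw (CohB1.tensorPow L n)).mapIso (CurveTensor.structureTensorIso M)))
    have h2 : χ k L (F.obj L) n = χ k L M (n + 1) :=
      congrArg Int.cast (CurveCohLib.euler_congr (k := k) (twistSuccIso L M n))
    have := hQn n
    simp only [Pi.add_apply, Pi.sub_apply] at this
    rw [← this, ← h1, ← h2]
    ring
  exact ⟨R, hR, hRn⟩

/-- Snapper: the twists of a coherent module have polynomial Euler characteristics of degree at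
most the dimension of the support. -/
theorem isPolyLt_of_dim_lt (hL : PicF.IsInvertible L) (d : ℕ) :
    ∀ (C : Closeds X), topologicalKrullDim ↥(C : Set X) < (d : WithBot ℕ∞) →
      ∀ M : X.Modules, Coh.IsCoh M → CohB1.support M ⊆ C → IsPolyLt d (χ k L M) := by
  haveI := CurveCohLib.isNoetherian_of_proper (k := k) (X := X)
  have hempty : ∀ (d : ℕ) (M : X.Modules), Coh.IsCoh M → CohB1.support M = ∅ → IsPolyLt d (χ k L M) :=
    fun d M hM h => ⟨0, by simp, fun n => by simp [χ_eq_zero k hL hM.1 h n]⟩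
  induction d with
  | zero =>
    intro C hC M hM hMC
    refine hempty 0 M hM (Set.eq_empty_of_forall_notMem fun x hx => ?_)
    haveI : Nonempty ↥(C : Set X) := ⟨⟨x, hMC hx⟩⟩
    haveI : Nonempty (IrreducibleCloseds ↥(C : Set X)) :=
      ⟨⟨closure {⟨x, hMC hx⟩}, isIrreducible_singleton.closure, isClosed_closure⟩⟩
    exact absurd hC (not_lt.2 (by exact_mod_cast Order.krullDim_nonneg))
  | succ d IHd =>
    intro C
    induction C using WellFoundedLT.induction with
    | ind C IH =>
      intro hC M hM hMC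
      rcases Set.eq_empty_or_nonempty (C : Set X) with h0 | hne
      · exact hempty _ M hM (Set.subset_empty_iff.1 (h0 ▸ hMC))
      by_cases hirr : IsIrreducible (C : Set X)
      · obtain ⟨η, hη⟩ := QuasiSober.sober hirr C.isClosed
        have hηC : η ∈ (C : Set X) := hη.mem
        obtain ⟨U, hηU, e, he⟩ := InvX.exists_frame hL η
        refine isPolyLt_step k hL he (fun N hN hNs => IHd ⟨_, C.isClosed.sdiff U.2⟩ ?_ N hN hNs) hM hMC
        haveI : IrreducibleSpace ↥(C : Set X) := isIrreducible_iff_irreducibleSpace.1 hirr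
        let Y : Set ↥(C : Set X) := {y | (y : X) ∈ (U : Set X)ᶜ}
        have hlt := H23.TopDim.dim_lt_of_ssubset (X := ↥(C : Set X)) (fun h => by rw [h] at hC; exact not_top_lt hC)
          (Y := Y) (U.2.isClosed_compl.preimage continuous_subtype_val)
          (fun h => (h.ge (Set.mem_univ ⟨η, hηC⟩) : η ∈ (U : Set X)ᶜ) hηU)
        have hle : topologicalKrullDim ↥((C : Set X) \ U) ≤ topologicalKrullDim ↥Y := by
          let g : ↥((C : Set X) \ U) → ↥Y := fun p => ⟨⟨p.1, p.2.1⟩, p.2.2⟩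
          have hg : Continuous g := (continuous_subtype_val.subtype_mk _).subtype_mk _
          have hcomp : Topology.IsInducing ((Subtype.val ∘ Subtype.val : ↥Y → X) ∘ g) :=
            show Topology.IsInducing (Subtype.val : ↥((C : Set X) \ U) → X) from Topology.IsInducing.subtypeVal
          exact ((Topology.IsInducing.subtypeVal.comp Topology.IsInducing.subtypeVal).of_comp_iff.1 hcomp).topologicalKrullDim_le
        refine lt_of_le_of_lt hle ?_
        revert hlt hC
        generalize topologicalKrullDim ↥Y = a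
        generalize topologicalKrullDim ↥(C : Set X) = b
        intro hC hlt
        cases a with
        | bot => exact WithBot.bot_lt_coe _
        | coe a =>
          cases b with
          | bot => exact absurd hlt not_lt_bot
          | coe b =>
            have h1 : a < b := WithBot.coe_lt_coe.1 hlt
            have h2 : b < ((d + 1 : ℕ) : ℕ∞) := WithBot.coe_lt_coe.1 hC
            refine WithBot.coe_lt_coe.2 (lt_of_lt_of_le h1 ?_)
            exact ENat.lt_add_one_iff (ENat.natCast_ne_top d) |>.1 (by exact_mod_cast h2)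
      · obtain ⟨A, B, hA, hB, hsub, hnA, hnB⟩ : ∃ A B : Set X, IsClosed A ∧ IsClosed B ∧
            (C : Set X) ⊆ A ∪ B ∧ ¬ (C : Set X) ⊆ A ∧ ¬ (C : Set X) ⊆ B := by
          by_contra! hno
          exact hirr ⟨hne, isPreirreducible_iff_isClosed_union_isClosed.2 fun A B hA hB hs =>
            or_iff_not_imp_left.2 fun hA' => hno A B hA hB hs hA'⟩
        let C₁ : Closeds X := ⟨(C : Set X) ∩ A, C.isClosed.inter hA⟩
        let C₂ : Closeds X := ⟨(C : Set X) ∩ B, C.isClosed.inter hB⟩
        have h1 : C₁ < C := lt_of_le_of_ne (Set.inter_subset_left : (C : Set X) ∩ A ⊆ C)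
          fun h => hnA (Set.inter_eq_left.1 (congrArg (SetLike.coe) h))
        have h2 : C₂ < C := lt_of_le_of_ne (Set.inter_subset_left : (C : Set X) ∩ B ⊆ C)
          fun h => hnB (Set.inter_eq_left.1 (congrArg (SetLike.coe) h))
        have hdim : ∀ C' : Closeds X, C' ≤ C → topologicalKrullDim ↥(C' : Set X) < ((d + 1 : ℕ) : WithBot ℕ∞) :=
          fun C' h => lt_of_le_of_lt ((Topology.IsInducing.subtypeVal.of_comp_iff.1
            (show Topology.IsInducing (Subtype.val ∘ Set.inclusion (show (C' : Set X) ⊆ C from h)) from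
              Topology.IsInducing.subtypeVal)).topologicalKrullDim_le) hC
        refine isPolyLt_of_split k hL (C := C) (C₁ := C₁) (C₂ := C₂) (fun x hx => (hsub hx).imp (fun h => ⟨hx, h⟩) fun h => ⟨hx, h⟩)
          (IH C₁ h1 (hdim C₁ h1.le)) (IH C₂ h2 (hdim C₂ h2.le)) hM hMC

end Groth.Agent.Snapper
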